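import Cfsg.Agent.Lib.PiHomog.Main

/-!
Owner: helper4. S4047: for a set `π` of odd primes, `π`-homogeneous groups with abelian or dihedral Sylow
2-subgroups are `π'`-closed if this holds for the simple ones.
-/

set_option autoImplicit false
set_option linter.unusedSectionVars false
set_option linter.style.haveILetI false

namespace CfsgLib.PiHomog.OddPi

open Subgroup CfsgLib.CIT CfsgLib.PiHomog

universe u

variable {π : Set ℕ}

/-- Sylow 2-subgroups are abelian or have a cyclic subgroup outside of which all elements are involutions. -/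
def SylTwo (G : Type*) [Group G] : Prop :=
  ∀ S : Sylow 2 G, IsMulCommutative ↥(S : Subgroup G) ∨
    ∃ c ∈ (S : Subgroup G), ∀ x ∈ (S : Subgroup G), x ∈ zpowers c ∨ x * x = 1

theorem sylTwo_of_statement {G : Type*} [Group G]
    (h2 : ∀ S : Sylow 2 G, IsMulCommutative S ∨ ∃ n : ℕ, Nonempty ((S : Subgroup G) ≃* DihedralGroup n)) :
    SylTwo G := by
  intro S
  rcases h2 S with h | ⟨n, ⟨e⟩⟩
  · exact Or.inl h
  refine Or.inr ⟨e.symm (DihedralGroup.r 1), (e.symm _).2, fun x hx => ?_⟩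
  rcases hd : e ⟨x, hx⟩ with i | i
  · refine Or.inl (mem_zpowers_iff.2 ⟨(i.cast : ℤ), ?_⟩)
    have h1 : e.symm (DihedralGroup.r 1) ^ (i.cast : ℤ) = ⟨x, hx⟩ := e.injective (by
      rw [map_zpow, e.apply_symm_apply, hd, DihedralGroup.r_one_zpow, ZMod.intCast_zmod_cast])
    simpa using congrArg Subtype.val h1
  · refine Or.inr ?_
    have h1 : (⟨x, hx⟩ : ↥(S : Subgroup G)) * ⟨x, hx⟩ = 1 := e.injective (by
      rw [map_mul, hd, map_one, DihedralGroup.sr_mul_sr, sub_self, DihedralGroup.one_def])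
    exact congrArg Subtype.val h1

theorem SylTwo.subgroup {G : Type*} [Group G] [Finite G] (h : SylTwo G) (H : Subgroup G) : SylTwo ↥H := by
  haveI : Fact (Nat.Prime 2) := ⟨Nat.prime_two⟩
  intro P
  obtain ⟨S, hS⟩ := (P.2.map H.subtype).exists_le_sylow
  have hm : ∀ x : ↥H, x ∈ (P : Subgroup ↥H) → (x : G) ∈ (S : Subgroup G) := fun x hx =>
    hS (mem_map_of_mem _ hx)
  rcases h S with hc | ⟨c, hcS, hc⟩
  · refine Or.inl ⟨⟨fun a b => ?_⟩⟩
    have := congrArg Subtype.val (hc.is_comm.comm ⟨((a : ↥H) : G), hm _ a.2⟩ ⟨((b : ↥H) : G), hm _ b.2⟩)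
    exact Subtype.ext (Subtype.ext this)
  haveI : IsCyclic ↥(zpowers c ⊓ (P : Subgroup ↥H).map H.subtype) :=
    Subgroup.isCyclic_of_le (inf_le_left : zpowers c ⊓ (P : Subgroup ↥H).map H.subtype ≤ zpowers c)
  obtain ⟨⟨d, hd⟩, hgen⟩ := IsCyclic.exists_generator (α := ↥(zpowers c ⊓ (P : Subgroup ↥H).map H.subtype))
  obtain ⟨d', hd', rfl⟩ := hd.2
  refine Or.inr ⟨d', hd', fun x hx => ?_⟩
  rcases hc x (hm x hx) with h1 | h1
  · obtain ⟨k, hk⟩ := mem_zpowers_iff.1 (hgen ⟨x, h1, x, hx, rfl⟩)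
    exact Or.inl (mem_zpowers_iff.2 ⟨k, Subtype.ext (by simpa using congrArg Subtype.val hk)⟩)
  · exact Or.inr (Subtype.ext h1)

theorem SylTwo.map {Y X : Type*} [Group Y] [Group X] [Finite Y] (h : SylTwo Y) (f : Y →* X)
    (hf : Function.Surjective f) : SylTwo X := by
  haveI : Fact (Nat.Prime 2) := ⟨Nat.prime_two⟩
  haveI : Finite X := Finite.of_surjective f hf
  intro P
  obtain ⟨Q, rfl⟩ := Sylow.mapSurjective_surjective hf 2 P
  rcases h Q with hc | ⟨c, hc, hall⟩
  · refine Or.inl ⟨⟨?_⟩⟩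
    rintro ⟨_, a, ha, rfl⟩ ⟨_, b, hb, rfl⟩
    refine Subtype.ext ?_
    show f a * f b = f b * f a
    rw [← map_mul, ← map_mul]
    exact congrArg f (congrArg Subtype.val (hc.is_comm.comm ⟨a, ha⟩ ⟨b, hb⟩))
  refine Or.inr ⟨f c, ⟨c, hc, rfl⟩, ?_⟩
  rintro _ ⟨x, hx, rfl⟩
  rcases hall x hx with h1 | h1
  · obtain ⟨k, rfl⟩ := mem_zpowers_iff.1 h1
    exact Or.inl (mem_zpowers_iff.2 ⟨k, (map_zpow f c k).symm⟩)
  · exact Or.inr (by rw [← map_mul, h1, map_one])

theorem PiNum.odd' (hodd : ∀ p ∈ π, p.Prime ∧ p ≠ 2) {n : ℕ} (h : PiNum π n) : Odd n :=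
  Nat.not_even_iff_odd.1 fun he => (hodd 2 (h 2 Nat.prime_two (even_iff_two_dvd.1 he))).2 rfl

theorem lifts_of_co {G : Type*} [Group G] [Finite G] {N : Subgroup G} [N.Normal]
    (hπ : ∀ p ∈ π, p.Prime ∧ p ≠ 2) (hN : CoNum π (Nat.card N)) :
    Lifts π (QuotientGroup.mk' N) := by
  intro X hX
  set Y := X.comap (QuotientGroup.mk' N) with hY
  set q := (QuotientGroup.mk' N).subgroupComap X with hq
  have hqs : Function.Surjective q :=
    (QuotientGroup.mk' N).subgroupComap_surjective_of_surjective X (QuotientGroup.mk'_surjective N)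
  have hker : q.ker = N.subgroupOf Y := by
    ext y
    rw [MonoidHom.mem_ker, mem_subgroupOf, ← QuotientGroup.eq_one_iff]
    exact ⟨fun e => congrArg Subtype.val e, fun e => Subtype.ext e⟩
  have hle : N ≤ Y := fun n hn => by
    rw [hY, mem_comap, show QuotientGroup.mk' N n = 1 from (QuotientGroup.eq_one_iff n).2 hn]; exact one_mem X
  have hidx : q.ker.index = Nat.card X := by
    rw [index_ker, MonoidHom.range_eq_top.2 hqs, card_top]
  have hcop : (Nat.card q.ker).Coprime q.ker.index := by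
    rw [hidx, hker, Nat.card_congr (subgroupOfEquivOfLe hle).toEquiv]
    exact (hX.coprime hN).symm
  obtain ⟨R, hR⟩ := exists_right_complement'_of_coprime (N := q.ker) hcop
  have hRc : Nat.card (R.map Y.subtype) = Nat.card X := by
    rw [card_map_of_injective Y.subtype_injective, ← hR.symm.index_eq_card, hidx]
  have hmap : (R.map Y.subtype).map (QuotientGroup.mk' N) = X := by
    refine le_antisymm ?_ fun x hx => ?_
    · rintro _ ⟨_, ⟨r, hr, rfl⟩, rfl⟩
      exact r.2
    · obtain ⟨y, hy⟩ := hqs ⟨x, hx⟩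
      obtain ⟨⟨⟨a, ha⟩, ⟨r, hr⟩⟩, hab⟩ := hR.2 y
      have h1 : q r = ⟨x, hx⟩ := by
        rw [← hy, ← show a * r = y from hab, map_mul, MonoidHom.mem_ker.1 ha, one_mul]
      exact ⟨r, ⟨r, hr, rfl⟩, congrArg Subtype.val h1⟩
  refine ⟨R.map Y.subtype, fun p hp hd => hX p hp (hRc ▸ hd), hmap, fun x hx => ?_⟩
  obtain ⟨g, rfl⟩ := QuotientGroup.mk'_surjective N x
  have hgY : g ∈ normalizer (Y : Set G) := comap_normalizes hx
  have hsup : R.map Y.subtype ⊔ N = Y := by
    refine le_antisymm (sup_le (map_subtype_le _) hle) fun y hy => ?_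
    obtain ⟨⟨⟨a, ha⟩, ⟨r, hr⟩⟩, hab⟩ := hR.2 ⟨y, hy⟩
    rw [← show (a : G) * r = y from congrArg Subtype.val hab]
    exact mul_mem (mem_sup_right (mem_subgroupOf.1 (hker ▸ ha))) (mem_sup_left ⟨r, hr, rfl⟩)
  obtain ⟨n, hn, hne⟩ := Core.exists_conj_eq_of_coprime (N := N) (H := R.map Y.subtype)
    (K := cj g (R.map Y.subtype)) le_normalizer_of_normal
    (by rw [hsup]; exact (cj_mono (map_subtype_le R)).trans (mem_normalizer_iff_cj.1 hgY).le)
    (card_cj _ _) (by rw [hRc]; exact hX.coprime hN)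
    (Or.inr (Cfsg.Agent.S0205.result (hRc ▸ PiNum.odd' hπ hX)))
  refine ⟨n⁻¹ * g, mem_normalizer_iff_cj.2 ?_, ?_⟩
  · rw [cj_mul, ← hne]
    exact cj_inv_cj n _
  · rw [map_mul, map_inv, show QuotientGroup.mk' N n = 1 from (QuotientGroup.eq_one_iff n).2 hn, inv_one,
      one_mul]

/-- The statement for the simple groups. -/
def SimpleGoal (π : Set ℕ) : Prop :=
  ∀ (T : Type u) [Group T] [Finite T] [IsSimpleGroup T], ¬ IsMulCommutative T → SylTwo T → Homog π T →
    CoNum π (Nat.card T)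

theorem closed_of_homog (hπ : ∀ p ∈ π, p.Prime ∧ p ≠ 2) (hT : SimpleGoal.{u} π) :
    ∀ (n : ℕ) (G : Type u) [Group G] [Finite G], Nat.card G = n →
    SylTwo G → Homog π G → Closed π G := by
  intro n
  induction n using Nat.strong_induction_on with
  | _ n ih =>
  intro G _ _ hn hcl hom
  classical
  subst hn
  have hsub : ∀ H : Subgroup G, H ≠ ⊤ → Closed π ↥H := fun H hH =>
    ih _ (lt_of_le_of_ne (card_le_card_group H) fun e => hH (eq_top_of_card_eq H e)) ↥H rfl
      (hcl.subgroup H) (hom.subgroup H)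
  by_cases hab : IsMulCommutative G
  · refine ⟨{ carrier := {x | CoNum π (orderOf x)}, one_mem' := by simpa using coNum_one,
              mul_mem' := ?_, inv_mem' := fun {a} ha => by simpa using ha }, fun x => Iff.rfl⟩
    intro a b ha hb p hp hd
    have := hd.trans (Commute.orderOf_mul_dvd_mul_orderOf (hab.is_comm.comm a b))
    exact (hp.dvd_mul.1 this).elim (ha p hp) (hb p hp)
  by_cases hsimp : IsSimpleGroup G
  · exact ⟨⊤, fun x => ⟨fun _ => (hT G hab hcl hom).of_dvd (orderOf_dvd_natCard x), fun _ => mem_top x⟩⟩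
  obtain ⟨N, hN, hNbot, hNtop⟩ : ∃ N : Subgroup G, N.Normal ∧ N ≠ ⊥ ∧ N ≠ ⊤ := by
    by_contra hno
    push Not at hno
    haveI : Nontrivial G := not_subsingleton_iff_nontrivial.1 fun hs =>
      hab ⟨⟨fun a b => Subsingleton.elim _ _⟩⟩
    exact hsimp ⟨fun N hN => or_iff_not_imp_left.2 (hno N hN)⟩
  have hNcl := hsub N hNtop
  set K := pc π N with hKdef
  haveI hKn : K.Normal := normalizer_eq_top_iff.1 (top_le_iff.1
    ((normalizer_eq_top_iff.2 hN).ge.trans (normalizer_le_pc N)))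
  have hKco : CoNum π (Nat.card K) := by
    intro p hp hd
    haveI : Fact p.Prime := ⟨hp⟩
    obtain ⟨x, hx⟩ := exists_prime_orderOf_dvd_card' p hd
    exact (hNcl.mem_pc.1 x.2).2 p hp (by rw [orderOf_coe, hx])
  by_cases hK : K = ⊥
  · have hNπ : PiNum π (Nat.card N) := by
      intro p hp hd
      by_contra hpπ
      haveI : Fact p.Prime := ⟨hp⟩
      obtain ⟨x, hx⟩ := exists_prime_orderOf_dvd_card' p hd
      have h1 : (x : G) ∈ K := mem_pc_of x.2 (by
        rw [orderOf_coe, hx]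
        intro r hr hrd
        rwa [(Nat.prime_dvd_prime_iff_eq hr hp).1 hrd])
      rw [hK, mem_bot] at h1
      rw [← orderOf_coe, h1, orderOf_one] at hx
      exact hp.ne_one hx.symm
    by_cases hC : centralizer (N : Set G) = ⊤
    · have hlt : Nat.card (G ⧸ N) < Nat.card G := by
        rw [card_eq_card_quotient_mul_card_subgroup N]
        exact lt_mul_of_one_lt_right Nat.card_pos (N.one_lt_card_iff_ne_bot.2 hNbot)
      obtain ⟨Kq, hKq⟩ := ih _ hlt (G ⧸ N) rfl (hcl.map _ (QuotientGroup.mk'_surjective N))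
        (homog_of_lifts (lifts_of_pi hNπ) hom)
      have hJ : ∀ x : G, CoNum π (orderOf x) → x ∈ Kq.comap (QuotientGroup.mk' N) := fun x hx =>
        (hKq _).2 (hx.of_dvd (orderOf_map_dvd _ x))
      by_cases hJtop : Kq.comap (QuotientGroup.mk' N) = ⊤
      · have hall : ∀ q : G ⧸ N, CoNum π (orderOf q) := fun q => by
          obtain ⟨x, rfl⟩ := QuotientGroup.mk'_surjective N q
          exact (hKq _).1 (hJtop ▸ mem_top x : x ∈ Kq.comap (QuotientGroup.mk' N))
        have hidx : CoNum π N.index := by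
          intro p hp hd
          haveI : Fact p.Prime := ⟨hp⟩
          rw [index_eq_card] at hd
          obtain ⟨q, hq⟩ := exists_prime_orderOf_dvd_card' p hd
          exact hall q p hp (by rw [hq])
        obtain ⟨C, hCc⟩ := exists_right_complement'_of_coprime (N := N) (hNπ.coprime hidx)
        haveI : C.Normal := ⟨fun c hc g => by
          obtain ⟨⟨⟨a, ha⟩, ⟨d, hd⟩⟩, hab'⟩ := hCc.2 g
          rw [← show a * d = g from hab']
          have hca : ∀ y : G, y * a = a * y := fun y =>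
            (mem_centralizer_iff.1 (hC ▸ mem_top y : y ∈ centralizer (N : Set G)) a ha).symm
          rw [show a * d * c * (a * d)⁻¹ = a * (d * c * d⁻¹) * a⁻¹ by group, ← hca, mul_inv_cancel_right]
          exact mul_mem (mul_mem hd hc) (inv_mem hd)⟩
        refine ⟨C, fun x => ⟨fun hx => ?_, fun hx => ?_⟩⟩
        · exact hidx.of_dvd ((Subgroup.orderOf_dvd_natCard C hx).trans hCc.symm.index_eq_card.symm.dvd)
        · refine (QuotientGroup.eq_one_iff x).1 (orderOf_eq_one_iff.1 ?_)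
          refine Nat.eq_one_of_dvd_coprimes (hNπ.coprime hx) ?_ (orderOf_map_dvd (QuotientGroup.mk' C) x)
          rw [← hCc.index_eq_card, index_eq_card]
          exact orderOf_dvd_natCard _
      · exact closed_of_le (hsub _ hJtop) hJ
    · refine closed_of_le (hsub _ hC) fun x hx => ?_
      exact homog_iff.1 hom N hNπ x (by rw [normalizer_eq_top_iff.2 hN]; trivial) hx
  · have hlt : Nat.card (G ⧸ K) < Nat.card G := by
      rw [card_eq_card_quotient_mul_card_subgroup K]
      exact lt_mul_of_one_lt_right Nat.card_pos (K.one_lt_card_iff_ne_bot.2 hK)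
    obtain ⟨Kq, hKq⟩ := ih _ hlt (G ⧸ K) rfl (hcl.map _ (QuotientGroup.mk'_surjective K))
      (homog_of_lifts (lifts_of_co hπ hKco) hom)
    refine ⟨Kq.comap (QuotientGroup.mk' K), fun x => ⟨fun hx => ?_, fun hx =>
      (hKq _).2 (hx.of_dvd (orderOf_map_dvd _ x))⟩⟩
    intro p hp hd
    have h1 : x ^ orderOf (QuotientGroup.mk' K x) ∈ K := by
      rw [← QuotientGroup.eq_one_iff (N := K), QuotientGroup.mk_pow]
      exact pow_orderOf_eq_one _
    have h2' : orderOf x ∣ orderOf (QuotientGroup.mk' K x) * Nat.card K := by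
      refine orderOf_dvd_of_pow_eq_one ?_
      rw [pow_mul]
      exact congrArg Subtype.val (pow_card_eq_one' (x := (⟨_, h1⟩ : K)))
    rcases hp.dvd_mul.1 (hd.trans h2') with h | h
    · exact (hKq _).1 hx p hp h
    · exact hKco p hp h

end CfsgLib.PiHomog.OddPi
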