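import Cfsg.Agent.Lib.PiHomog.Odd.Simple

/-!
Owner: helper4. S4047 from the list of simple groups with abelian Sylow 2-subgroups.
-/

set_option autoImplicit false

namespace CfsgLib.PiHomog.OddPi

open Subgroup CfsgLib.PiHomog

universe u

/-- **S4047** from the list. -/
theorem result_of_walterList (hW : CfsgLib.Walter.WalterList.{u}) {G : Type u} [Group G] [Finite G] (π : Set ℕ)
    (hodd : ∀ p ∈ π, p.Prime ∧ p ≠ 2)
    (h2 : ∀ S : Sylow 2 G, IsMulCommutative S ∨ ∃ n : ℕ, Nonempty ((S : Subgroup G) ≃* DihedralGroup n))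
    (hhom : (∀ H : Subgroup G, H ≠ ⊥ → (∀ p : ℕ, p.Prime → p ∣ Nat.card ↥H → p ∈ π) →
        ∀ p : ℕ, p.Prime → p ∣ (Subgroup.centralizer (H : Set G)).relIndex (Subgroup.normalizer (H : Set G)) → p ∈ π)) :
    (∃ K : Subgroup G, ∀ x : G, x ∈ K ↔ ∀ p : ℕ, p.Prime → p ∣ orderOf x → p ∉ π) :=
  closed_of_homog hodd (simpleGoal hodd hW) (Nat.card G) G rfl (sylTwo_of_statement h2) hhom

end CfsgLib.PiHomog.OddPi
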