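import Cfsg.Agent.Lib.PiHomog.Odd.Induction
import Cfsg.Agent.Lib.Recog.Walter.SylowFixed.Linear
import Cfsg.Agent.Lib.Recog.Walter.List
import Cfsg.Agent.Lib.Recog.ReeType.Real
import Cfsg.Agent.Lib.TwoGroups.Recognition

/-!
Owner: helper4. S4047: the simple groups with abelian or dihedral Sylow 2-subgroups, from the list of those with
abelian Sylow 2-subgroups and the Gorenstein–Walter theorem.
-/

set_option autoImplicit false
set_option linter.unusedSectionVars false
set_option linter.style.haveILetI false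

namespace CfsgLib.PiHomog.OddPi

open Subgroup CfsgLib.PiHomog

universe u

variable {π : Set ℕ}

theorem piNum_of_pGroup {G : Type*} [Group G] [Finite G] {r : ℕ} [Fact r.Prime] (hrπ : r ∈ π) {H : Subgroup G}
    (hH : IsPGroup r H) : PiNum π (Nat.card H) := by
  obtain ⟨k, hk⟩ := hH.exists_card_eq
  rw [hk]
  exact piNum_prime_pow Fact.out hrπ

theorem coNum_two (hπ : ∀ p ∈ π, p.Prime ∧ p ≠ 2) : CoNum π 2 := fun p hp hd hm =>
  (hπ p hm).2 ((Nat.prime_dvd_prime_iff_eq hp Nat.prime_two).1 hd)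

/-- An inverted element of odd prime order: the prime is not in `π`. -/
theorem not_mem_of_real {T : Type*} [Group T] [Finite T] (hπ : ∀ p ∈ π, p.Prime ∧ p ≠ 2) (hom : Homog π T)
    {z s : T} {r : ℕ} (hz : orderOf z = r) (hs : orderOf s = 2) (hinv : s * z * s⁻¹ = z⁻¹) : r ∉ π := fun hr => by
  haveI : Fact r.Prime := ⟨(hπ r hr).1⟩
  have hn : s ∈ normalizer (zpowers z : Set T) := by
    refine mem_normalizer_iff_map_conj_eq.2 ?_
    rw [MonoidHom.map_zpowers]
    show zpowers (s * z * s⁻¹) = zpowers z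
    rw [hinv, zpowers_inv]
  have hc := mem_centralizer_iff.1 (homog_iff.1 hom (zpowers z)
    (piNum_of_pGroup hr (IsPGroup.of_card (n := 1) (by rw [Nat.card_zpowers, hz, pow_one]))) s hn
    (hs ▸ coNum_two hπ)) z (mem_zpowers z)
  rw [← hc, mul_inv_cancel_right] at hinv
  have h2 : orderOf z ∣ 2 := orderOf_dvd_of_pow_eq_one (by rw [pow_two]; nth_rewrite 2 [hinv]; rw [mul_inv_cancel])
  rw [hz] at h2
  exact (hπ r hr).2 ((Nat.prime_dvd_prime_iff_eq (hπ r hr).1 Nat.prime_two).1 h2)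

/-- The least prime of `π` dividing a simple group cannot have cyclic Sylow subgroups. -/
theorem coNum_of_cyclic {T : Type*} [Group T] [Finite T] [IsSimpleGroup T] (hna : ¬ IsMulCommutative T)
    (hπ : ∀ p ∈ π, p.Prime ∧ p ≠ 2) (hom : Homog π T)
    (hcyc : ∀ r ∈ π, r ∣ Nat.card T → ∀ R : Sylow r T, IsCyclic ↥(R : Subgroup T)) :
    CoNum π (Nat.card T) := by
  classical
  by_contra hc
  simp only [CoNum, not_forall, not_not] at hc
  obtain ⟨p, hp, hpd, hpπ⟩ := hc
  have hex : ∃ r, r ∈ π ∧ r ∣ Nat.card T := ⟨p, hpπ, hpd⟩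
  obtain ⟨hrπ, hrd⟩ := Nat.find_spec hex
  have hmin : ∀ s, s ∈ π → s ∣ Nat.card T → Nat.find hex ≤ s := fun s h1 h2 => Nat.find_min' hex ⟨h1, h2⟩
  generalize Nat.find hex = r at hrπ hrd hmin
  haveI : Fact r.Prime := ⟨(hπ r hrπ).1⟩
  obtain ⟨R⟩ : Nonempty (Sylow r T) := inferInstance
  haveI : IsCyclic ↥(R : Subgroup T) := hcyc r hrπ hrd R
  have hNC : ¬ normalizer ((R : Subgroup T) : Set T) ≤ centralizer ((R : Subgroup T) : Set T) := by
    intro hle
    have hcomp := MonoidHom.ker_transferSylow_isComplement' R hle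
    rcases (MonoidHom.normal_ker (MonoidHom.transferSylow R hle)).eq_bot_or_eq_top with h | h
    · rw [h] at hcomp
      have h1 : (R : Subgroup T) = ⊤ := isComplement'_bot_left.1 hcomp
      refine hna ⟨⟨fun a b => ?_⟩⟩
      exact congrArg Subtype.val ((IsCyclic.commGroup (α := ↥(R : Subgroup T))).mul_comm
        ⟨a, h1 ▸ mem_top a⟩ ⟨b, h1 ▸ mem_top b⟩)
    · rw [h] at hcomp
      have h1 : (R : Subgroup T) = ⊥ := isComplement'_top_left.1 hcomp
      have h2 := R.dvd_card_of_dvd_card hrd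
      rw [h1, Subgroup.card_bot] at h2
      exact (hπ r hrπ).1.ne_one (Nat.dvd_one.1 h2)
  obtain ⟨g, hg, hgc⟩ := SetLike.not_le_iff_exists.1 hNC
  set ψ := normalizerMonoidHom (R : Subgroup T) with hψ
  have hψ1 : ψ ⟨g, hg⟩ ≠ 1 := fun e => hgc (mem_subgroupOf.1
    ((normalizerMonoidHom_ker (R : Subgroup T)) ▸ (MonoidHom.mem_ker.2 e :
      (⟨g, hg⟩ : ↥(normalizer ((R : Subgroup T) : Set T))) ∈ ψ.ker)))
  haveI : Finite (MulAut ↥(R : Subgroup T)) := Finite.of_injective _ MulEquiv.toEquiv_injective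
  obtain ⟨s, hs, hsd⟩ := Nat.exists_prime_and_dvd (mt orderOf_eq_one_iff.1 hψ1)
  set n := orderOf (⟨g, hg⟩ : ↥(normalizer ((R : Subgroup T) : Set T))) with hn
  -- an `s`-element acting nontrivially
  set h := (⟨g, hg⟩ : ↥(normalizer ((R : Subgroup T) : Set T))) ^ (n / s ^ n.factorization s) with hh
  have hho : orderOf h = s ^ n.factorization s := by
    rw [hh, orderOf_pow_of_dvd (Nat.ordCompl_pos s (orderOf_pos _).ne').ne' (Nat.ordCompl_dvd n s), ← hn,
      Nat.div_div_self (Nat.ordProj_dvd n s) (orderOf_pos _).ne']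
  have hψh : ψ h ≠ 1 := by
    intro e
    rw [hh, map_pow] at e
    have h1 : orderOf (ψ ⟨g, hg⟩) ∣ n / s ^ n.factorization s := orderOf_dvd_of_pow_eq_one e
    exact Nat.not_dvd_ordCompl hs (orderOf_pos _).ne' (hsd.trans h1)
  have hhc : (h : T) ∉ centralizer ((R : Subgroup T) : Set T) := fun hm => hψh (MonoidHom.mem_ker.1
    (by rw [hψ, normalizerMonoidHom_ker]; exact mem_subgroupOf.2 hm))
  have hsd' : s ∣ Nat.totient (Nat.card ↥(R : Subgroup T)) := by
    rw [← IsCyclic.card_mulAut]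
    exact hsd.trans (orderOf_dvd_natCard _)
  obtain ⟨a, ha⟩ := R.2.exists_card_eq
  have ha0 : a ≠ 0 := fun e => by
    have h2 := R.dvd_card_of_dvd_card hrd
    rw [ha, e, pow_zero] at h2
    exact (hπ r hrπ).1.ne_one (Nat.dvd_one.1 h2)
  rw [ha, Nat.totient_prime_pow (hπ r hrπ).1 (Nat.pos_of_ne_zero ha0)] at hsd'
  by_cases hsπ : s ∈ π
  · have hsT : s ∣ Nat.card T := by
      refine dvd_trans ?_ (orderOf_dvd_natCard (h : T))
      rw [Subgroup.orderOf_coe, hho]
      refine dvd_pow_self s fun e => hψh ?_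
      rw [e, pow_zero, orderOf_eq_one_iff] at hho
      rw [hho, map_one]
    have hsr : s = r := by
      rcases hs.dvd_mul.1 hsd' with h1 | h1
      · exact (Nat.prime_dvd_prime_iff_eq hs (hπ r hrπ).1).1 (hs.dvd_of_dvd_pow h1)
      · have := Nat.le_of_dvd (by have := (hπ r hrπ).1.two_le; omega) h1
        have := hmin s hsπ hsT
        omega
    subst hsr
    have hp' : IsPGroup s (zpowers (h : T)) := IsPGroup.of_card (n := n.factorization s)
      (by rw [Nat.card_zpowers, Subgroup.orderOf_coe, hho])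
    have hmem : (h : T) ∈ (R : Subgroup T) := ((hp'.inf_normalizer_sylow R).le ⟨mem_zpowers _, h.2⟩).2
    exact hhc (mem_centralizer_iff.2 fun x hx => congrArg Subtype.val
      ((IsCyclic.commGroup (α := ↥(R : Subgroup T))).mul_comm ⟨x, hx⟩ ⟨_, hmem⟩))
  · refine hhc (homog_iff.1 hom _ (piNum_of_pGroup hrπ R.2) _ h.2 fun q hq hd hqπ => hsπ ?_)
    rw [Subgroup.orderOf_coe, hho] at hd
    rwa [(Nat.prime_dvd_prime_iff_eq hq hs).1 (hq.dvd_of_dvd_pow hd)] at hqπ

theorem isCyclic_of_sq {T : Type*} [Group T] [Finite T] {r : ℕ} [Fact r.Prime] (hd : r ∣ Nat.card T)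
    (h : ¬ r * r ∣ Nat.card T) (R : Sylow r T) : IsCyclic ↥(R : Subgroup T) := by
  obtain ⟨a, ha⟩ := R.2.exists_card_eq
  have h1 : a = 1 := by
    have h2 := R.dvd_card_of_dvd_card hd
    rw [ha] at h2
    rcases a with _ | _ | a
    · exact absurd (Nat.dvd_one.1 (by simpa using h2)) (Fact.out : r.Prime).ne_one
    · rfl
    · refine absurd ((?_ : r * r ∣ r ^ (a + 1 + 1)).trans (ha ▸ Subgroup.card_subgroup_dvd_card _)) h
      exact ⟨r ^ a, by ring⟩
  exact isCyclic_of_prime_card (p := r) (by rw [ha, h1, pow_one])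

theorem psl_card_not_prime {F : Type} [Field F] [Fintype F] (h4 : 4 ≤ Fintype.card F)
    (h : (Nat.card (Matrix.ProjectiveSpecialLinearGroup (Fin 2) F)).Prime) : False := by
  have hc := CfsgLib.Classical.Two.card_PSL_two (F := F)
  have hg : Nat.gcd 2 (Fintype.card F - 1) ≤ 2 := Nat.gcd_le_left _ two_pos
  obtain ⟨p, hp⟩ := CharP.exists F
  obtain ⟨f, hpp, hF⟩ := FiniteField.card F p
  have hd : Fintype.card F ∣ Nat.gcd 2 (Fintype.card F - 1) * Nat.card (Matrix.ProjectiveSpecialLinearGroup (Fin 2) F) :=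
    hc ▸ dvd_mul_right _ _
  have hcop : (Fintype.card F).Coprime (Fintype.card F - 1) := by
    have := (Nat.coprime_self_sub_right (show 1 ≤ Fintype.card F by omega)).2 (Nat.coprime_one_right _)
    exact this
  have h1 := (hcop.coprime_dvd_right (Nat.gcd_dvd_right 2 _)).dvd_of_dvd_mul_left hd
  rcases (Nat.dvd_prime h).1 h1 with h2 | h2
  · omega
  · rw [← h2, mul_comm] at hc
    have h3 := Nat.eq_of_mul_eq_mul_left (show 0 < Fintype.card F by omega) hc
    have h5 := Nat.pow_le_pow_left h4 2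
    omega

theorem sq_dvd_false {r : ℕ} (hr : r.Prime) (h2 : r ≠ 2) (h3 : r ≠ 3) (h : r * r ∣ 2520) : False := by
  have hle : r * r ≤ 2520 := Nat.le_of_dvd (by norm_num) h
  have : r ≤ 50 := by nlinarith
  interval_cases r <;> norm_num at *

theorem j1_sq_false {r : ℕ} (hr : r.Prime) (h2 : r ≠ 2) (h : r * r ∣ 175560) : False := by
  have hd : r ∣ 175560 := (dvd_mul_right r r).trans h
  rw [show (175560 : ℕ) = 2 * (2 * (2 * (3 * (5 * (7 * (11 * 19)))))) by norm_num] at hd
  rcases hr.dvd_mul.1 hd with e | e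
  · exact h2 ((Nat.prime_dvd_prime_iff_eq hr Nat.prime_two).1 e)
  rcases hr.dvd_mul.1 e with e | e
  · exact h2 ((Nat.prime_dvd_prime_iff_eq hr Nat.prime_two).1 e)
  rcases hr.dvd_mul.1 e with e | e
  · exact h2 ((Nat.prime_dvd_prime_iff_eq hr Nat.prime_two).1 e)
  rcases hr.dvd_mul.1 e with e | e
  · rw [(Nat.prime_dvd_prime_iff_eq hr Nat.prime_three).1 e] at h; norm_num at h
  rcases hr.dvd_mul.1 e with e | e
  · rw [(Nat.prime_dvd_prime_iff_eq hr (by norm_num)).1 e] at h; norm_num at h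
  rcases hr.dvd_mul.1 e with e | e
  · rw [(Nat.prime_dvd_prime_iff_eq hr (by norm_num)).1 e] at h; norm_num at h
  rcases hr.dvd_mul.1 e with e | e
  · rw [(Nat.prime_dvd_prime_iff_eq hr (by norm_num)).1 e] at h; norm_num at h
  · rw [(Nat.prime_dvd_prime_iff_eq hr (by norm_num)).1 e] at h; norm_num at h

/-- A nonabelian 2-group with a cyclic subgroup outside of which all elements are involutions is dihedral. -/
theorem exists_dihedral {T : Type*} [Group T] [Finite T] {S : Sylow 2 T}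
    (hS : ¬ IsMulCommutative ↥(S : Subgroup T)) {c : T} (hc : c ∈ (S : Subgroup T))
    (hall : ∀ x ∈ (S : Subgroup T), x ∈ zpowers c ∨ x * x = 1) :
    ∃ n : ℕ, 2 ≤ n ∧ Nonempty (↥(S : Subgroup T) ≃* DihedralGroup n) := by
  classical
  set d : ↥(S : Subgroup T) := ⟨c, hc⟩ with hd
  have hall' : ∀ x : ↥(S : Subgroup T), x ∈ zpowers d ∨ x * x = 1 := fun x => by
    rcases hall x x.2 with h | h
    · obtain ⟨k, hk⟩ := mem_zpowers_iff.1 h
      exact Or.inl (mem_zpowers_iff.2 ⟨k, Subtype.ext (by simpa using hk)⟩)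
    · exact Or.inr (Subtype.ext h)
  have hinv : ∀ x : ↥(S : Subgroup T), x ∉ zpowers d → x * d * x⁻¹ = d⁻¹ := by
    intro x hx
    have h1 : x * x = 1 := (hall' x).resolve_left hx
    have h2 : (x * d) * (x * d) = 1 := (hall' _).resolve_left fun h => hx (by
      have := mul_mem h (inv_mem (mem_zpowers d)); rwa [mul_inv_cancel_right] at this)
    rw [inv_eq_of_mul_eq_one_right h1]
    exact eq_inv_of_mul_eq_one_left (by rw [← h2]; simp only [mul_assoc])
  by_cases hall2 : ∀ x : ↥(S : Subgroup T), x * x = 1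
  · refine absurd ⟨⟨fun a b => ?_⟩⟩ hS
    have hi : ∀ z : ↥(S : Subgroup T), z⁻¹ = z := fun z => inv_eq_of_mul_eq_one_right (hall2 z)
    calc a * b = (a * b)⁻¹ := (hi _).symm
      _ = b * a := by rw [mul_inv_rev, hi, hi]
  obtain ⟨x, hx⟩ : ∃ x, x ∉ zpowers d := by
    by_contra h
    push Not at h
    refine hS ⟨⟨fun a b => ?_⟩⟩
    obtain ⟨i, rfl⟩ := mem_zpowers_iff.1 (h a)
    obtain ⟨j, rfl⟩ := mem_zpowers_iff.1 (h b)
    rw [← zpow_add, ← zpow_add, add_comm]
  have hd2 : d * d ≠ 1 := fun e => hall2 fun z => by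
    rcases hall' z with h | h
    · obtain ⟨i, rfl⟩ := mem_zpowers_iff.1 h
      rw [← (Commute.refl d).mul_zpow, e, one_zpow]
    · exact h
  have hidx : (zpowers d).index = 2 := by
    refine index_eq_two_iff.2 ⟨x, fun y => ?_⟩
    rcases em (y ∈ zpowers d) with h | h
    · exact Or.inr ⟨h, fun h' => hx (by have := mul_mem (inv_mem h) h'; rwa [inv_mul_cancel_left] at this)⟩
    · refine Or.inl ⟨by_contra fun h' => hd2 ?_, h⟩
      have h1 := hinv _ h'
      have h2 : y * x * d * (y * x)⁻¹ = d := by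
        rw [show y * x * d * (y * x)⁻¹ = y * (x * d * x⁻¹) * y⁻¹ by group, hinv x hx, ← conj_inv, hinv y h, inv_inv]
      rw [h2] at h1
      nth_rewrite 1 [h1]
      exact inv_mul_cancel d
  haveI : NeZero (orderOf d) := ⟨(orderOf_pos d).ne'⟩
  refine ⟨orderOf d, ?_, CfsgLib.TwoGroups.nonempty_mulEquiv_dihedralGroup rfl
    ((hall' x).resolve_left hx) hx (hinv x hx) ?_⟩
  · by_contra h
    have : orderOf d = 1 := by have := orderOf_pos d; omega
    exact hd2 (by rw [orderOf_eq_one_iff.1 this, one_mul])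
  · rw [← (zpowers d).card_mul_index, hidx, Nat.card_zpowers, mul_comm]

open Matrix CfsgLib.Known.AutPSL in
/-- `PSL(2, q)`. -/
theorem psl_case (hπ : ∀ p ∈ π, p.Prime ∧ p ≠ 2) {F : Type} [Field F] [Fintype F] (h4 : 4 ≤ Fintype.card F)
    (hom : Homog π (PSL 2 F)) : CoNum π (Nat.card (PSL 2 F)) := by
  classical
  obtain ⟨p, hc⟩ := CharP.exists F
  haveI := hc
  obtain ⟨f, hp, hF⟩ := FiniteField.card F p
  haveI : Fact p.Prime := ⟨hp⟩
  haveI := CfsgLib.Classical.isSimpleGroup_PSL_two (F := F) h4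
  have hna : ¬ IsMulCommutative (PSL 2 F) := fun hab => by
    haveI := hab
    letI : CommGroup (PSL 2 F) := { (inferInstance : Group (PSL 2 F)) with mul_comm := hab.is_comm.comm }
    exact psl_card_not_prime h4 IsSimpleGroup.prime_card
  refine coNum_of_cyclic hna hπ hom fun r hr hrd R => ?_
  haveI : Fact r.Prime := ⟨(hπ r hr).1⟩
  refine CfsgLib.Recog.JankoThompson.psl_sylow_isCyclic p r (hπ r hr).2 (fun hrp => ?_) R
  subst hrp
  -- the characteristic is not in `π`
  let d : F → (SL 2 F) := fun b => if hb : b = 0 then 1 else ⟨!![b, 0; 0, b⁻¹], by simp [det_fin_two, hb]⟩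
  have hd : ∀ b : F, b ≠ 0 → (d b : Matrix (Fin 2) (Fin 2) F) = !![b, 0; 0, b⁻¹] := fun b hb => by
    simp [d, hb]
  have hdm : ∀ a b : F, a ≠ 0 → b ≠ 0 → d a * d b = d (a * b) := fun a b ha hb => Subtype.ext (by
    rw [Matrix.SpecialLinearGroup.coe_mul, hd a ha, hd b hb, hd _ (mul_ne_zero ha hb)]
    simp [mul_comm])
  have hdp : ∀ (b : F) (n : ℕ), b ≠ 0 → d b ^ n = d (b ^ n) := fun b n hb => by
    induction n with
    | zero => exact Subtype.ext (by rw [pow_zero, pow_zero, hd 1 one_ne_zero]; simp [one_fin_two])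
    | succ n ih => rw [pow_succ, ih, hdm _ _ (pow_ne_zero n hb) hb, pow_succ]
  have h2 : (2 : F) ≠ 0 := CfsgLib.Classical.Two.two_ne_zero_of_char (hπ r hr).2
  -- a torus element commuting with the unitriangular elements
  have key : ∀ b : F, b ≠ 0 → CoNum π (orderOf (proj 2 F (d b))) → b * b = 1 := by
    intro b hb hco
    let U := ((proj 2 F).comp CfsgLib.Walter.SylowFixed.upper).range
    have hU : IsPGroup r U := by
      refine IsPGroup.of_surjective ?_ _ ((proj 2 F).comp CfsgLib.Walter.SylowFixed.upper).rangeRestrict_surjective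
      exact IsPGroup.of_card (n := f) (by rw [Nat.card_congr Multiplicative.toAdd, Nat.card_eq_fintype_card, hF])
    have hcj : ∀ (b : F), b ≠ 0 → ∀ c : Multiplicative F, d b * CfsgLib.Walter.SylowFixed.upper c =
        CfsgLib.Walter.SylowFixed.upper (Multiplicative.ofAdd (b * b * c.toAdd)) * d b := by
      intro b hb c
      refine Subtype.ext ?_
      rw [Matrix.SpecialLinearGroup.coe_mul, Matrix.SpecialLinearGroup.coe_mul, hd b hb]
      show !![b, 0; 0, b⁻¹] * !![1, c.toAdd; 0, 1] = !![1, b * b * c.toAdd; 0, 1] * !![b, 0; 0, b⁻¹]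
      ext i j
      fin_cases i <;> fin_cases j <;> simp [Matrix.mul_apply, Fin.sum_univ_two] <;> field_simp
    have hn : proj 2 F (d b) ∈ normalizer (U : Set (PSL 2 F)) := by
      refine mem_normalizer_iff_map_conj_eq.2 (eq_of_le_of_card_ge ?_ ?_)
      · rintro _ ⟨_, ⟨c, rfl⟩, rfl⟩
        refine ⟨Multiplicative.ofAdd (b * b * c.toAdd), ?_⟩
        show proj 2 F (CfsgLib.Walter.SylowFixed.upper _) =
          proj 2 F (d b) * proj 2 F (CfsgLib.Walter.SylowFixed.upper c) * (proj 2 F (d b))⁻¹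
        rw [eq_mul_inv_iff_mul_eq, ← map_mul (proj 2 F), ← map_mul (proj 2 F), hcj b hb c]
      · exact le_of_eq (Subgroup.card_map_of_injective
          (MulAut.conj (proj 2 F (d b))).injective).symm
    have h1 := mem_centralizer_iff.1 (homog_iff.1 hom U (piNum_of_pGroup hr hU) _ hn hco) _
      ⟨Multiplicative.ofAdd 1, rfl⟩
    have h3 : proj 2 F (CfsgLib.Walter.SylowFixed.upper (Multiplicative.ofAdd 1)) =
        proj 2 F (CfsgLib.Walter.SylowFixed.upper (Multiplicative.ofAdd (b * b))) := by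
      refine mul_right_cancel (b := proj 2 F (d b)) ?_
      rw [← map_mul, ← map_mul]
      conv_rhs => rw [show b * b = b * b * (Multiplicative.ofAdd (1 : F)).toAdd by simp, ← hcj b hb]
      rw [map_mul, map_mul]
      exact h1
    obtain ⟨c, -, hc'⟩ := (proj_eq_iff _ _).1 h3
    have e0 := congrFun (congrFun hc' 0) 0
    have e1 := congrFun (congrFun hc' 0) 1
    change (1 : F) = c * 1 at e0
    change b * b = c * 1 at e1
    rw [e1, ← e0]
  have hunit : ∀ n : ℕ, n ∣ Fintype.card F - 1 → ∃ b : F, b ≠ 0 ∧ orderOf b = n := by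
    intro n hn
    obtain ⟨u, hu⟩ := IsCyclic.exists_ofOrder_eq_natCard (α := Fˣ)
    rw [CfsgLib.Classical.card_units_field] at hu
    have hq0 : Fintype.card F - 1 ≠ 0 := by omega
    refine ⟨((u ^ ((Fintype.card F - 1) / n) : Fˣ) : F), Units.ne_zero _, ?_⟩
    have hn0 : n ≠ 0 := fun e => hq0 (Nat.eq_zero_of_zero_dvd (e ▸ hn))
    rw [orderOf_units, orderOf_pow_of_dvd (Nat.div_pos (Nat.le_of_dvd (Nat.pos_of_ne_zero hq0) hn)
      (Nat.pos_of_ne_zero hn0)).ne' (by rw [hu]; exact Nat.div_dvd_of_dvd hn), hu, Nat.div_div_self hn hq0]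
  have hqodd : Odd (Fintype.card F) := hF ▸ (hp.odd_of_ne_two (hπ r hr).2).pow
  by_cases h44 : 4 ∣ Fintype.card F - 1
  · obtain ⟨b, hb, hbo⟩ := hunit 4 h44
    have hb2 : b * b ≠ 1 := fun e => by
      have := orderOf_dvd_of_pow_eq_one (show b ^ 2 = 1 by rw [pow_two, e])
      rw [hbo] at this; norm_num at this
    have hm1 : b * b = -1 := ((mul_self_eq_one_iff (a := b * b)).1 (by
      rw [show b * b * (b * b) = b ^ 4 by ring, ← hbo, pow_orderOf_eq_one])).resolve_left hb2
    refine hb2 (key b hb ((coNum_two hπ).of_dvd (orderOf_dvd_of_pow_eq_one ?_)))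
    rw [← map_pow, hdp b 2 hb, pow_two, hm1, ← map_one (proj 2 F)]
    refine (proj_eq_iff _ _).2 ⟨-1, by simp, ?_⟩
    rw [hd _ (by simp)]
    ext i j
    fin_cases i <;> fin_cases j <;> simp
  · obtain ⟨k, hk⟩ := hqodd
    obtain ⟨l, hl, hld⟩ := Nat.exists_prime_and_dvd (show k ≠ 1 by omega)
    have hl2 : l ≠ 2 := fun e => h44 (by
      obtain ⟨w, hw⟩ := hld
      exact ⟨w, by rw [hk, hw, e]; omega⟩)
    obtain ⟨b, hb, hbo⟩ := hunit l (by rw [hk]; exact dvd_trans hld ⟨2, by omega⟩)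
    have hb2 : b * b ≠ 1 := fun e => hl2 ((Nat.prime_dvd_prime_iff_eq hl Nat.prime_two).1
      (hbo ▸ orderOf_dvd_of_pow_eq_one (show b ^ 2 = 1 by rw [pow_two, e])))
    have hdl : orderOf (proj 2 F (d b)) ∣ l := by
      refine orderOf_dvd_of_pow_eq_one ?_
      rw [← map_pow, hdp b l hb, ← hbo, pow_orderOf_eq_one, show d 1 = 1 from Subtype.ext (by
        rw [hd 1 one_ne_zero]; simp [one_fin_two]), map_one]
    refine hb2 (key b hb (CoNum.of_dvd ?_ hdl))
    intro q hq hqd hqπ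
    rw [(Nat.prime_dvd_prime_iff_eq hq hl).1 hqd] at hqπ
    let w : SL 2 F := ⟨!![0, 1; -1, 0], by simp [det_fin_two]⟩
    have hnd : proj 2 F (d b) ≠ 1 := fun e => hb2 (by
      obtain ⟨c, hc0, hc'⟩ := (proj_eq_iff _ _).1 (e.trans (map_one _).symm)
      have e0 : (1 : F) = c * b := by simpa [hd b hb] using congrFun (congrFun hc' 0) 0
      have e1 : (1 : F) = c * b⁻¹ := by simpa [hd b hb] using congrFun (congrFun hc' 1) 1
      have h := mul_left_cancel₀ hc0 (e0.symm.trans e1)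
      nth_rewrite 2 [h]
      exact mul_inv_cancel₀ hb)
    refine not_mem_of_real hπ hom (r := l) ((Nat.dvd_prime hl).1 hdl |>.resolve_left fun e =>
      hnd (orderOf_eq_one_iff.1 e)) (s := proj 2 F w) ?_ ?_ hqπ
    · refine orderOf_eq_prime ?_ ?_
      · rw [← map_pow, ← map_one (proj 2 F)]
        refine (proj_eq_iff _ _).2 ⟨-1, by simp, ?_⟩
        rw [Matrix.SpecialLinearGroup.coe_pow, pow_two]
        ext i j
        fin_cases i <;> fin_cases j <;> simp [w]
      · intro e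
        obtain ⟨c, -, hc'⟩ := (proj_eq_iff _ _).1 (e.trans (map_one _).symm)
        have e0 := congrFun (congrFun hc' 0) 0
        simp [w] at e0
    · rw [← map_inv, ← map_mul, ← map_mul, ← map_inv]
      congr 1
      refine Subtype.ext ?_
      simp only [Matrix.SpecialLinearGroup.coe_mul, Matrix.SpecialLinearGroup.coe_inv, Matrix.adjugate_fin_two,
        hd b hb]
      ext i j
      fin_cases i <;> fin_cases j <;> simp [w, Matrix.mul_apply, Fin.sum_univ_two]

theorem alt_seven_case (hπ : ∀ p ∈ π, p.Prime ∧ p ≠ 2) (hom : Homog π (alternatingGroup (Fin 7))) :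
    CoNum π (Nat.card (alternatingGroup (Fin 7))) := by
  haveI : IsSimpleGroup (alternatingGroup (Fin 7)) := alternatingGroup.isSimpleGroup (by simp)
  have hcard : Nat.card (alternatingGroup (Fin 7)) = 2520 := by
    rw [nat_card_alternatingGroup, Nat.card_eq_fintype_card, Fintype.card_fin]
    rfl
  refine coNum_of_cyclic (fun h => ?_) hπ hom fun r hr hrd R => ?_
  · have h1 := congrArg Subtype.val (h.is_comm.comm
      (⟨Equiv.swap 0 1 * Equiv.swap 1 2, Equiv.Perm.mem_alternatingGroup.2 (by decide)⟩ : alternatingGroup (Fin 7))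
      ⟨Equiv.swap 1 2 * Equiv.swap 3 4, Equiv.Perm.mem_alternatingGroup.2 (by decide)⟩)
    exact absurd h1 (by decide)
  haveI : Fact r.Prime := ⟨(hπ r hr).1⟩
  refine isCyclic_of_sq hrd (fun hsq => ?_) R
  rw [hcard] at hsq
  have hr3 : r ≠ 3 := fun e => by
    subst e
    refine not_mem_of_real hπ hom
      (z := ⟨Equiv.swap 0 1 * Equiv.swap 1 2, Equiv.Perm.mem_alternatingGroup.2 (by decide)⟩)
      (s := ⟨Equiv.swap 1 2 * Equiv.swap 3 4, Equiv.Perm.mem_alternatingGroup.2 (by decide)⟩)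
      (orderOf_eq_prime (Subtype.ext (by decide)) (fun e => absurd (congrArg Subtype.val e) (by decide)))
      (orderOf_eq_prime (Subtype.ext (by decide)) (fun e => absurd (congrArg Subtype.val e) (by decide)))
      (Subtype.ext (by decide)) hr
  exact sq_dvd_false (hπ r hr).1 (hπ r hr).2 hr3 hsq

theorem homog_equiv {G H : Type*} [Group G] [Finite G] [Group H] [Finite H] (e : G ≃* H) (h : Homog π G) :
    Homog π H := by
  refine homog_iff.2 fun X hX g hg ho => mem_centralizer_iff.2 fun x hx => e.symm.injective ?_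
  rw [map_mul, map_mul]
  refine mem_centralizer_iff.1 (homog_iff.1 h (X.map e.symm.toMonoidHom) ?_ (e.symm g)
    (le_normalizer_map e.symm.toMonoidHom ⟨g, hg, rfl⟩) (by rwa [MulEquiv.orderOf_eq])) _ ⟨x, hx, rfl⟩
  rwa [card_map_of_injective (f := e.symm.toMonoidHom) e.symm.injective]

/-- **The simple groups.** -/
theorem simpleGoal (hπ : ∀ p ∈ π, p.Prime ∧ p ≠ 2) (hW : CfsgLib.Walter.WalterList.{u}) :
    SimpleGoal.{u} π := by
  intro T _ _ _ hna hT hom
  haveI : Fact (Nat.Prime 2) := ⟨Nat.prime_two⟩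
  have psl : ∀ (F : Type) [Field F] [Fintype F], 4 ≤ Fintype.card F →
      (T ≃* Matrix.ProjectiveSpecialLinearGroup (Fin 2) F) → CoNum π (Nat.card T) := fun F _ _ h4 e => by
    rw [Nat.card_congr e.toEquiv]
    exact psl_case hπ h4 (homog_equiv e hom)
  obtain ⟨S⟩ : Nonempty (Sylow 2 T) := inferInstance
  by_cases hS : IsMulCommutative ↥(S : Subgroup T)
  · have hab : CfsgLib.AbelianSolvCent.AbSylow T := fun P => ⟨⟨fun a b => (P.equiv S).injective (by
      rw [map_mul, map_mul]; exact hS.is_comm.comm _ _)⟩⟩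
    rcases hW T hna hab with ⟨n, hn, F, iF, iT, hF, ⟨e⟩⟩ | ⟨F, iF, iT, h5, -, ⟨e⟩⟩ | hJ | ⟨F, iF, iT, hch, ⟨d⟩⟩
    · exact psl F (by rw [hF]; exact (by norm_num : 4 = 2 ^ 2) ▸ Nat.pow_le_pow_right two_pos hn) e
    · exact psl F (by omega) e
    · refine coNum_of_cyclic hna hπ hom fun r hr hrd R => ?_
      haveI : Fact r.Prime := ⟨(hπ r hr).1⟩
      refine isCyclic_of_sq hrd (fun hsq => ?_) R
      rw [hJ.2] at hsq
      exact j1_sq_false (hπ r hr).1 (hπ r hr).2 hsq
    · intro r hr hrd hrπ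
      obtain ⟨z, s, hz, hs, hinv⟩ := CfsgLib.Recog.ReeType.exists_real d hr (hπ r hrπ).2 hrd
      exact not_mem_of_real hπ hom hz hs hinv hrπ
  · obtain ⟨c, hc, hall⟩ := (hT S).resolve_left hS
    obtain ⟨n, hn, he⟩ := exists_dihedral hS hc hall
    haveI : Group.IsPerfect T := ⟨by
      rcases (inferInstance : (commutator T).Normal).eq_bot_or_eq_top with h | h
      · exact absurd ⟨⟨fun a b => commutatorElement_eq_one_iff_mul_comm.1 (mem_bot.1 (h ▸
          commutator_mem_commutator (mem_top a) (mem_top b)))⟩⟩ hna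
      · exact h⟩
    have hO : Cfsg.oddCore T = ⊥ := by
      rcases (inferInstance : (Cfsg.oddCore T).Normal).eq_bot_or_eq_top with h | h
      · exact h
      · refine absurd ⟨⟨fun a b => IsSimpleGroup.comm_iff_isSolvable.mpr (Cfsg.Agent.S0205.result ?_) a b⟩⟩ hna
        have := CfsgLib.ZStar.odd_card_oddCore T
        rwa [h, card_top] at this
    let q : T ⧸ Cfsg.oddCore T ≃* T :=
      (QuotientGroup.quotientMulEquivOfEq hO).trans QuotientGroup.quotientBot
    rcases Cfsg.Agent.S0483.result S n hn he with ⟨F, iF, iT, -, h3, ⟨e⟩⟩ | h7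
    · exact psl F (by omega) (q.symm.trans e)
    · obtain ⟨e⟩ := h7
      rw [Nat.card_congr (q.symm.trans e).toEquiv]
      exact alt_seven_case hπ (homog_equiv (q.symm.trans e) hom)

end CfsgLib.PiHomog.OddPi
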